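import Mathlib

/-!
Fixed points of an endomorphism of a finite group in sections.
-/

set_option autoImplicit false

namespace Cfsg.Agent.FG72.Alperin

variable {G Q : Type*} [Group G] [Group Q] [Finite G]

theorem card_fixed_le (f : G →* G) (g : Q →* Q) (π : G →* Q) (hπ : Function.Surjective π)
    (hcomm : ∀ x, π (f x) = g (π x)) :
    Nat.card {y : Q // g y = y} ≤ Nat.card {x : G // f x = x} := by
  classical
  let Y : Subgroup G := (g.eqLocus (MonoidHom.id Q)).comap π
  let ψ : Y → π.ker := fun x => ⟨(x : G)⁻¹ * f x, by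
    rw [MonoidHom.mem_ker, map_mul, map_inv, hcomm, show g (π (x : G)) = π (x : G) from x.2,
      inv_mul_cancel]⟩
  let sec : π.ker → G := fun z =>
    if h : ∃ x : Y, ψ x = z then ((h.choose : Y) : G) else 1
  have hsec : ∀ x : Y, (sec (ψ x))⁻¹ * f (sec (ψ x)) = (x : G)⁻¹ * f x := fun x => by
    have h : ∃ x' : Y, ψ x' = ψ x := ⟨x, rfl⟩
    simp only [sec, dif_pos h]
    exact congrArg Subtype.val h.choose_spec
  let Θ : Y → {x : G // f x = x} × π.ker := fun x =>
    (⟨(x : G) * (sec (ψ x))⁻¹, by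
      rw [map_mul, map_inv]
      have h := hsec x
      calc f x * (f (sec (ψ x)))⁻¹
          = (x : G) * ((x : G)⁻¹ * f x) * ((sec (ψ x))⁻¹ * f (sec (ψ x)))⁻¹ * (sec (ψ x))⁻¹ := by
            group
        _ = (x : G) * (sec (ψ x))⁻¹ := by rw [h]; group⟩, ψ x)
  have hinj : Function.Injective Θ := by
    intro a b hab
    simp only [Θ, Prod.mk.injEq, Subtype.mk.injEq] at hab
    rw [hab.2] at hab
    exact Subtype.ext (mul_right_cancel hab.1)
  have h := Nat.card_le_card_of_injective Θ hinj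
  rw [Nat.card_prod] at h
  have hker : π.ker ≤ Y := fun x hx => by
    show g (π x) = π x
    rw [MonoidHom.mem_ker.mp hx, map_one]
  let πY : Y →* Q := π.comp Y.subtype
  have h1 : Nat.card πY.ker = Nat.card π.ker := by
    refine Nat.card_congr
      { toFun := fun x => ⟨((x : Y) : G), x.2⟩
        invFun := fun x => ⟨⟨(x : G), hker x.2⟩, x.2⟩
        left_inv := fun _ => rfl
        right_inv := fun _ => rfl }
  have h2 : Nat.card πY.range = Nat.card {y : Q // g y = y} := by
    refine Nat.card_congr (Equiv.subtypeEquivRight fun y => ⟨?_, ?_⟩)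
    · rintro ⟨x, rfl⟩; exact x.2
    · intro hy
      obtain ⟨x, rfl⟩ := hπ y
      exact ⟨⟨x, hy⟩, rfl⟩
  have h3 : Nat.card Y = Nat.card {y : Q // g y = y} * Nat.card π.ker := by
    rw [← πY.ker.index_mul_card, Subgroup.index_ker, h1, h2]
  rw [h3] at h
  exact Nat.le_of_mul_le_mul_right h Nat.card_pos

theorem card_fixed_subgroup_le (f : G →* G) (S : Subgroup G) (hS : ∀ x ∈ S, f x ∈ S) :
    Nat.card {y : S // ((f.comp S.subtype).codRestrict S fun x => hS x x.2) y = y} ≤
      Nat.card {x : G // f x = x} :=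
  Nat.card_le_card_of_injective
    (fun y => ⟨((y : S) : G), congrArg Subtype.val y.2⟩)
    fun a b h => Subtype.ext (Subtype.ext (congrArg Subtype.val h :))

/-- In a `p`-group with at most `p ^ n` fixed points every fixed point is killed by `p ^ n`. -/
theorem pow_eq_one_of_fixed {p : ℕ} [hp : Fact p.Prime] (hG : IsPGroup p G) (f : G →* G) {n : ℕ}
    (hn : Nat.card {x : G // f x = x} ≤ p ^ n) {x : G} (hx : f x = x) : x ^ p ^ n = 1 := by
  let C : Subgroup G := f.eqLocus (MonoidHom.id G)
  obtain ⟨j, hj⟩ := IsPGroup.iff_card.mp (hG.to_subgroup C)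
  have hj' : p ^ j ≤ p ^ n := hj ▸ hn
  have h := congrArg Subtype.val (pow_card_eq_one' (x := (⟨x, hx⟩ : C)))
  simp only [hj, Subgroup.coe_pow, Subgroup.coe_one] at h
  exact orderOf_dvd_iff_pow_eq_one.mp ((orderOf_dvd_of_pow_eq_one h).trans
    (pow_dvd_pow p ((Nat.pow_le_pow_iff_right hp.out.one_lt).mp hj')))

end Cfsg.Agent.FG72.Alperin
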