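import Mathlib

/-!
Powerfully embedded subgroups of a finite `p`-group: the subgroup generated by `p`-th powers
commutes with taking commutators.
-/

set_option autoImplicit false

namespace Cfsg.Agent.FG72.Alperin

open scoped commutatorElement

variable {G H : Type*} [Group G] [Group H] (p : ℕ)

/-- The subgroup generated by the `p`-th powers of the elements of `N`. -/
def pp (N : Subgroup G) : Subgroup G := Subgroup.closure ((fun x => x ^ p) '' (N : Set G))

/-- Iterated `pp`. -/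
def ppk (k : ℕ) (N : Subgroup G) : Subgroup G := (pp p)^[k] N

/-- `N` is normal and its commutator with the whole group consists of `p²`-th powers. -/
structure PE (N : Subgroup G) : Prop where
  normal : N.Normal
  comm : ⁅N, (⊤ : Subgroup G)⁆ ≤ pp p (pp p N)

variable {p}

theorem pow_mem_pp {N : Subgroup G} {x : G} (hx : x ∈ N) : x ^ p ∈ pp p N :=
  Subgroup.subset_closure ⟨x, hx, rfl⟩

theorem pp_le {N K : Subgroup G} (h : ∀ x ∈ N, x ^ p ∈ K) : pp p N ≤ K :=
  (Subgroup.closure_le _).mpr (Set.image_subset_iff.mpr h)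

theorem pp_mono {N K : Subgroup G} (h : N ≤ K) : pp p N ≤ pp p K :=
  pp_le fun _ hx => pow_mem_pp (h hx)

theorem pp_le_self (N : Subgroup G) : pp p N ≤ N := pp_le fun _ hx => N.pow_mem hx _

theorem map_pp (f : G →* H) (N : Subgroup G) : (pp p N).map f = pp p (N.map f) := by
  unfold pp
  rw [MonoidHom.map_closure, Subgroup.coe_map, Set.image_image, Set.image_image]
  simp only [map_pow]

theorem pp_normal {N : Subgroup G} (hN : N.Normal) : (pp p N).Normal := ⟨fun x hx g => by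
  have h : (pp p N).map (MulAut.conj g).toMonoidHom ≤ pp p N := by
    rw [map_pp]
    exact pp_mono (Subgroup.map_le_iff_le_comap.mpr fun y hy => hN.conj_mem y hy g)
  exact h (Subgroup.mem_map_of_mem _ hx)⟩

theorem ppk_zero (N : Subgroup G) : ppk p 0 N = N := rfl

theorem ppk_succ (k : ℕ) (N : Subgroup G) : ppk p (k + 1) N = pp p (ppk p k N) :=
  Function.iterate_succ_apply' _ _ _

theorem ppk_add (i j : ℕ) (N : Subgroup G) : ppk p (i + j) N = ppk p i (ppk p j N) :=
  Function.iterate_add_apply _ _ _ _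

theorem ppk_mono {N K : Subgroup G} (h : N ≤ K) : ∀ k, ppk p k N ≤ ppk p k K
  | 0 => h
  | k + 1 => by rw [ppk_succ, ppk_succ]; exact pp_mono (ppk_mono h k)

theorem ppk_antitone {N : Subgroup G} {i j : ℕ} (h : i ≤ j) : ppk p j N ≤ ppk p i N := by
  induction h with
  | refl => rfl
  | @step m _ ih => rw [ppk_succ]; exact (pp_le_self _).trans ih

theorem pow_mem_ppk {N : Subgroup G} {x : G} (hx : x ∈ N) : ∀ k, x ^ p ^ k ∈ ppk p k N
  | 0 => by rw [pow_zero, pow_one, ppk_zero]; exact hx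
  | k + 1 => by
    rw [ppk_succ, pow_succ p k, pow_mul]
    exact pow_mem_pp (pow_mem_ppk hx k)

theorem map_ppk (f : G →* H) (N : Subgroup G) : ∀ k, (ppk p k N).map f = ppk p k (N.map f)
  | 0 => rfl
  | k + 1 => by rw [ppk_succ, map_pp, map_ppk f N k, ppk_succ]

section PGroup

variable [Finite G] (hG : IsPGroup p G) [hp : Fact p.Prime]
include hG

/-- In a finite `p`-group `A ≤ B [A,G]` forces `A ≤ B`. -/
theorem le_of_le_sup_comm {A B : Subgroup G} [B.Normal]
    (h : A ≤ B ⊔ ⁅A, (⊤ : Subgroup G)⁆) : A ≤ B := by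
  haveI : Group.IsNilpotent G := hG.isNilpotent
  obtain ⟨c, hc⟩ := Subgroup.nilpotent_iff_lowerCentralSeries.mp ‹_›
  let q := QuotientGroup.mk' B
  have hk : q.ker = B := QuotientGroup.ker_mk' B
  have key : ∀ k, A ≤ B ⊔ (⊤ : Subgroup G).lowerCentralSeries k := by
    intro k
    induction k with
    | zero => simp
    | succ k ih =>
      refine h.trans (sup_le le_sup_left ?_)
      rw [sup_comm, ← hk, ← Subgroup.map_le_map_iff, Subgroup.lowerCentralSeries_succ,
        Subgroup.map_commutator, Subgroup.map_commutator]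
      refine Subgroup.commutator_mono ?_ le_rfl
      rw [Subgroup.map_le_map_iff, hk, sup_comm]
      exact ih
  have := key c
  rwa [hc, sup_bot_eq] at this

theorem eq_bot_of_central {A : Subgroup G} (hA : A ≤ Subgroup.center G) (h : A ≤ pp p A) :
    A = ⊥ := by
  have hc : ∀ a ∈ A, ∀ b : G, Commute a b := fun a ha b =>
    (Subgroup.mem_center_iff.mp (hA ha) b).symm
  let S : Subgroup G :=
    { carrier := {g | ∃ a ∈ A, a ^ p = g}
      one_mem' := ⟨1, A.one_mem, one_pow _⟩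
      mul_mem' := fun {x y} ⟨a, ha, hx⟩ ⟨b, hb, hy⟩ =>
        ⟨a * b, A.mul_mem ha hb, by rw [(hc a ha b).mul_pow, hx, hy]⟩
      inv_mem' := fun {x} ⟨a, ha, hx⟩ => ⟨a⁻¹, A.inv_mem ha, by rw [inv_pow, hx]⟩ }
  have h1 : ∀ g ∈ A, ∃ a ∈ A, a ^ p = g := fun g hg =>
    (pp_le (K := S) fun x hx => ⟨x, hx, rfl⟩) (h hg)
  have hj : ∀ j, ∀ g ∈ A, ∃ a ∈ A, a ^ p ^ j = g := by
    intro j
    induction j with
    | zero => exact fun g hg => ⟨g, hg, by simp⟩
    | succ j ih =>
      intro g hg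
      obtain ⟨a, ha, rfl⟩ := ih g hg
      obtain ⟨b, hb, rfl⟩ := h1 a ha
      exact ⟨b, hb, by rw [pow_succ', pow_mul]⟩
  obtain ⟨k, hk⟩ := IsPGroup.iff_card.mp hG
  refine (Subgroup.eq_bot_iff_forall _).mpr fun g hg => ?_
  obtain ⟨a, -, rfl⟩ := hj k g hg
  rw [← hk, pow_card_eq_one']

/-- Reduction of an inclusion `A ≤ B` to a quotient where `B = 1` and `A` is central. -/
theorem le_of_quotient {A B : Subgroup G} (hA : A.Normal) (hB : B.Normal)
    (h : ∀ q : G →* G ⧸ (B ⊔ ⁅A, (⊤ : Subgroup G)⁆), Function.Surjective q →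
      B.map q = ⊥ → A.map q ≤ Subgroup.center _ → A.map q = ⊥) : A ≤ B := by
  haveI := hA; haveI := hB
  refine le_of_le_sup_comm hG ?_
  have hker : (QuotientGroup.mk' (B ⊔ ⁅A, (⊤ : Subgroup G)⁆)).ker = B ⊔ ⁅A, (⊤ : Subgroup G)⁆ :=
    QuotientGroup.ker_mk' _
  conv_rhs => rw [← hker]
  rw [← Subgroup.map_eq_bot_iff]
  refine h _ (QuotientGroup.mk'_surjective _) ?_ ?_
  · rw [Subgroup.map_eq_bot_iff, hker]; exact le_sup_left
  · rintro _ ⟨a, ha, rfl⟩
    refine Subgroup.mem_center_iff.mpr fun x => ?_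
    obtain ⟨x, rfl⟩ := QuotientGroup.mk'_surjective _ x
    refine (commutatorElement_eq_one_iff_mul_comm.mp ?_).symm
    rw [← map_commutatorElement, ← MonoidHom.mem_ker, hker]
    exact Subgroup.mem_sup_right (Subgroup.commutator_mem_commutator ha (Subgroup.mem_top x))

theorem eq_bot_of_le_pp {A : Subgroup G} (hA : A.Normal) (h : A ≤ pp p A) : A = ⊥ := by
  refine le_bot_iff.mp (le_of_quotient hG hA inferInstance fun q hq _ hc => ?_)
  exact eq_bot_of_central (hG.of_surjective q hq) hc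
    ((Subgroup.map_mono h).trans (map_pp q A).le)

end PGroup

theorem PE.map {N : Subgroup G} (hN : PE p N) (f : G →* H) (hf : Function.Surjective f) :
    PE p (N.map f) := by
  refine ⟨hN.normal.map f hf, ?_⟩
  rw [← Subgroup.map_top_of_surjective f hf, ← Subgroup.map_commutator, ← map_pp, ← map_pp]
  exact Subgroup.map_mono hN.comm

/-- Conjugates of `b` by powers of `a`. -/
theorem conj_pow_formula {a b y t : G} (hy : a * b * a⁻¹ = y * b) (ht : a * y * a⁻¹ = t * y)
    (htc : t ∈ Subgroup.center G) :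
    ∀ n : ℕ, a ^ n * b * (a ^ n)⁻¹ = t ^ n.choose 2 * y ^ n * b := by
  intro n
  induction n with
  | zero => simp
  | succ n ih =>
    have hc : ∀ x : G, Commute t x := fun x => (Subgroup.mem_center_iff.mp htc x).symm
    have h1 : a * t ^ n.choose 2 * a⁻¹ = t ^ n.choose 2 := by
      rw [← ((hc a).pow_left _).eq, mul_inv_cancel_right]
    calc a ^ (n + 1) * b * (a ^ (n + 1))⁻¹
        = a * (a ^ n * b * (a ^ n)⁻¹) * a⁻¹ := by rw [pow_succ']; simp [mul_assoc]
      _ = a * (t ^ n.choose 2 * y ^ n * b) * a⁻¹ := by rw [ih]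
      _ = (a * t ^ n.choose 2 * a⁻¹) * (a * y ^ n * a⁻¹) * (a * b * a⁻¹) := by
            simp [mul_assoc]
      _ = t ^ n.choose 2 * (t * y) ^ n * (y * b) := by rw [h1, ← conj_pow, ht, hy]
      _ = t ^ n.choose 2 * (t ^ n * y ^ n) * (y * b) := by rw [(hc y).mul_pow]
      _ = t ^ (n + 1).choose 2 * y ^ (n + 1) * b := by
            rw [Nat.choose_succ_succ', Nat.choose_one_right, add_comm n (n.choose 2), pow_add,
              pow_succ y n]
            simp [mul_assoc]

theorem comm_pow {a b t : G} (ht : ⁅a, ⁅a, b⁆⁆ = t) (htc : t ∈ Subgroup.center G) (n : ℕ) :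
    ⁅a ^ n, b⁆ = t ^ n.choose 2 * ⁅a, b⁆ ^ n := by
  have h := conj_pow_formula (a := a) (b := b) (y := ⁅a, b⁆) (t := t)
    (by simp [commutatorElement_def, mul_assoc]) (by rw [← ht]; simp [commutatorElement_def, mul_assoc])
    htc n
  rw [commutatorElement_def, h, mul_inv_cancel_right]

/-- If `⁅e, a⁆` is central then `⁅-, a⁆` is multiplicative at `e`. -/
theorem comm_mul_left {e e' a : G} (h : ⁅e', a⁆ ∈ Subgroup.center G) :
    ⁅e * e', a⁆ = ⁅e, a⁆ * ⁅e', a⁆ := by
  rw [commutatorElement_mul_left_eq_conj_mul, Subgroup.mem_center_iff.mp h e, mul_inv_cancel_right,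
    ← Subgroup.mem_center_iff.mp h ⁅e, a⁆]

/-- The elements whose commutator with `a` lies in a central subgroup. -/
def commPre (a : G) (A : Subgroup G) (hA : A ≤ Subgroup.center G) : Subgroup G where
  carrier := {e | ⁅e, a⁆ ∈ A}
  one_mem' := by simp
  mul_mem' {x y} hx hy := by
    show ⁅x * y, a⁆ ∈ A
    rw [comm_mul_left (hA hy)]
    exact A.mul_mem hx hy
  inv_mem' {x} hx := by
    show ⁅x⁻¹, a⁆ ∈ A
    have hc := Subgroup.inv_mem _ (hA hx)
    rw [commutatorElement_inv_left, ← commutatorElement_inv, Subgroup.mem_center_iff.mp hc,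
      mul_assoc, inv_mul_cancel, mul_one]
    exact A.inv_mem hx

theorem comm_pow_central {e a : G} (h : ⁅e, a⁆ ∈ Subgroup.center G) :
    ∀ n : ℕ, ⁅e ^ n, a⁆ = ⁅e, a⁆ ^ n := by
  intro n
  induction n with
  | zero => simp
  | succ n ih => rw [pow_succ, comm_mul_left h, ih, pow_succ]

/-- The first half in a quotient. -/
theorem core_forward {M N : Subgroup G} (hM : PE p M) (hN : PE p N) (hK : pp p ⁅M, N⁆ = ⊥)
    (hT : ⁅pp p M, N⁆ ≤ Subgroup.center G) : ⁅pp p M, N⁆ = ⊥ := by
  set K := ⁅M, N⁆ with hKdef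
  haveI := hM.normal; haveI := hN.normal
  have hKn : K.Normal := inferInstance
  have hKM : K ≤ pp p (pp p M) := le_trans (Subgroup.commutator_mono le_rfl le_top) hM.comm
  have hKN : K ≤ pp p (pp p N) := by
    rw [hKdef, Subgroup.commutator_comm]
    exact le_trans (Subgroup.commutator_mono le_rfl le_top) hN.comm
  have hexp : ∀ k ∈ K, k ^ p = 1 := fun k hk => Subgroup.mem_bot.mp (hK ▸ pow_mem_pp hk)
  let Z : Subgroup G :=
    { carrier := {g | g ∈ Subgroup.center G ∧ g ^ p = 1}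
      one_mem' := ⟨one_mem _, one_pow _⟩
      mul_mem' := fun {x y} hx hy => ⟨mul_mem hx.1 hy.1, by
        rw [(show Commute x y from (Subgroup.mem_center_iff.mp hx.1 y).symm).mul_pow, hx.2, hy.2,
          one_mul]⟩
      inv_mem' := fun {x} hx => ⟨inv_mem hx.1, by rw [inv_pow, hx.2, inv_one]⟩ }
  have hMK : ∀ a ∈ M, ∀ y ∈ K, ⁅a, y⁆ = 1 := by
    intro a ha y hy
    have hS : pp p N ≤ commPre a Z fun g hg => hg.1 := by
      refine pp_le fun c hc => ?_
      show ⁅c ^ p, a⁆ ∈ Z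
      have hy' : ⁅c, a⁆ ∈ K := by
        rw [hKdef, Subgroup.commutator_comm]; exact Subgroup.commutator_mem_commutator hc ha
      have ht : ⁅c, ⁅c, a⁆⁆ ∈ Subgroup.center G := by
        rw [← commutatorElement_inv]
        exact inv_mem (hT (Subgroup.commutator_mem_commutator (pp_le_self _ (hKM hy')) hc))
      have htp : ⁅c, ⁅c, a⁆⁆ ^ p = 1 := hexp _ (by
        rw [show ⁅c, ⁅c, a⁆⁆ = (c * ⁅c, a⁆ * c⁻¹) * ⁅c, a⁆⁻¹ from commutatorElement_def _ _]
        exact mul_mem (hKn.conj_mem _ hy' c) (inv_mem hy'))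
      rw [comm_pow rfl ht, hexp _ hy', mul_one]
      exact pow_mem (show ⁅c, ⁅c, a⁆⁆ ∈ Z from ⟨ht, htp⟩) _
    have h2 : pp p (pp p N) ≤ commPre a (⊥ : Subgroup G) bot_le := by
      refine pp_le fun e he => ?_
      obtain ⟨hc, h1⟩ := hS he
      show ⁅e ^ p, a⁆ ∈ (⊥ : Subgroup G)
      rw [comm_pow_central hc, h1]
      exact one_mem _
    have := Subgroup.mem_bot.mp (h2 (hKN hy))
    rw [← commutatorElement_inv, this, inv_one]
  rw [eq_bot_iff, Subgroup.commutator_le]
  have hle : pp p M ≤ Subgroup.centralizer (N : Set G) := by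
    refine pp_le fun a ha => Subgroup.mem_centralizer_iff.mpr fun b hb => ?_
    refine (commutatorElement_eq_one_iff_mul_comm.mp ?_).symm
    have hy : ⁅a, b⁆ ∈ K := Subgroup.commutator_mem_commutator ha hb
    rw [comm_pow (hMK a ha _ hy) (one_mem _), one_pow, one_mul, hexp _ hy]
  intro x hx b hb
  rw [Subgroup.mem_bot, commutatorElement_eq_one_iff_mul_comm]
  exact (Subgroup.mem_centralizer_iff.mp (hle hx) b hb).symm

section PGroup

variable [Finite G] (hG : IsPGroup p G) [hp : Fact p.Prime]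
include hG

/-- The second half in a quotient. -/
theorem core_backward {M N : Subgroup G} (hM : PE p M) (hN : PE p N) (hT : ⁅pp p M, N⁆ = ⊥)
    (hA : pp p ⁅M, N⁆ ≤ Subgroup.center G) : pp p ⁅M, N⁆ = ⊥ := by
  set K := ⁅M, N⁆ with hKdef
  set A := pp p K with hAdef
  haveI := hM.normal; haveI := hN.normal
  have hKM : K ≤ pp p (pp p M) := le_trans (Subgroup.commutator_mono le_rfl le_top) hM.comm
  have hKN : K ≤ pp p (pp p N) := by
    rw [hKdef, Subgroup.commutator_comm]
    exact le_trans (Subgroup.commutator_mono le_rfl le_top) hN.comm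
  have hMN : ∀ x ∈ pp p M, ∀ b ∈ N, ⁅x, b⁆ = 1 := fun x hx b hb =>
    Subgroup.mem_bot.mp (hT ▸ Subgroup.commutator_mem_commutator hx hb)
  have hKN' : ∀ y ∈ K, ∀ b ∈ N, ⁅y, b⁆ = 1 := fun y hy b hb =>
    hMN y (pp_le_self _ (hKM hy)) b hb
  have hppA : pp p A ≤ Subgroup.center G := (pp_le_self A).trans hA
  have hMK : ∀ a ∈ M, ∀ y ∈ K, ⁅a, y⁆ ∈ pp p A := by
    intro a ha y hy
    have hS : pp p N ≤ commPre a A hA := by
      refine pp_le fun c hc => ?_
      show ⁅c ^ p, a⁆ ∈ A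
      have hy' : ⁅c, a⁆ ∈ K := by
        rw [hKdef, Subgroup.commutator_comm]; exact Subgroup.commutator_mem_commutator hc ha
      have ht : ⁅c, ⁅c, a⁆⁆ = 1 := by
        rw [← commutatorElement_inv, hKN' _ hy' c hc, inv_one]
      rw [comm_pow ht (one_mem _), one_pow, one_mul]
      exact pow_mem_pp hy'
    have h2 : pp p (pp p N) ≤ commPre a (pp p A) hppA := by
      refine pp_le fun e he => ?_
      show ⁅e ^ p, a⁆ ∈ pp p A
      rw [comm_pow_central (hA (hS he))]
      exact pow_mem_pp (hS he)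
    rw [← commutatorElement_inv]
    exact inv_mem (h2 (hKN hy))
  let S : Subgroup G :=
    { carrier := {k | k ∈ K ∧ k ^ p ∈ pp p A}
      one_mem' := ⟨one_mem _, by rw [one_pow]; exact one_mem _⟩
      mul_mem' := fun {x y} hx hy => ⟨mul_mem hx.1 hy.1, by
        rw [(show Commute x y from commutatorElement_eq_one_iff_mul_comm.mp
          (hKN' x hx.1 y (Subgroup.commutator_le_right M N hy.1))).mul_pow]
        exact mul_mem hx.2 hy.2⟩
      inv_mem' := fun {x} hx => ⟨inv_mem hx.1, by rw [inv_pow]; exact inv_mem hx.2⟩ }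
  have hKS : K ≤ S := by
    rw [hKdef, Subgroup.commutator_le]
    intro a ha b hb
    have hy : ⁅a, b⁆ ∈ K := Subgroup.commutator_mem_commutator ha hb
    refine ⟨hy, ?_⟩
    have h := comm_pow (a := a) (b := b) rfl (hppA (hMK a ha _ hy)) p
    rw [hMN _ (pow_mem_pp ha) b hb] at h
    rw [eq_inv_of_mul_eq_one_right h.symm]
    exact inv_mem (pow_mem (hMK a ha _ hy) _)
  exact eq_bot_of_central hG hA (pp_le fun k hk => (hKS hk).2)

theorem comm_pp_left {M N : Subgroup G} (hM : PE p M) (hN : PE p N) :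
    ⁅pp p M, N⁆ = pp p ⁅M, N⁆ := by
  haveI := hM.normal; haveI := hN.normal
  haveI := pp_normal (p := p) hM.normal
  have hKn : (⁅M, N⁆).Normal := inferInstance
  haveI := pp_normal (p := p) hKn
  refine le_antisymm ?_ ?_
  · refine le_of_quotient hG inferInstance inferInstance fun q hq hB hc => ?_
    rw [map_pp, Subgroup.map_commutator] at hB
    rw [Subgroup.map_commutator, map_pp] at hc ⊢
    exact core_forward (hM.map q hq) (hN.map q hq) hB hc
  · refine le_of_quotient hG inferInstance inferInstance fun q hq hB hc => ?_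
    rw [Subgroup.map_commutator, map_pp] at hB
    rw [map_pp, Subgroup.map_commutator] at hc ⊢
    exact core_backward (hG.of_surjective q hq) (hM.map q hq) (hN.map q hq) hB hc

theorem comm_pp_right {M N : Subgroup G} (hM : PE p M) (hN : PE p N) :
    ⁅M, pp p N⁆ = pp p ⁅M, N⁆ := by
  rw [Subgroup.commutator_comm, comm_pp_left hG hN hM, Subgroup.commutator_comm]

theorem pe_pp (htop : PE p (⊤ : Subgroup G)) {N : Subgroup G} (hN : PE p N) : PE p (pp p N) := by
  refine ⟨pp_normal hN.normal, ?_⟩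
  rw [comm_pp_left hG hN htop]
  exact pp_mono hN.comm

end PGroup

/-- The three subgroup lemma for normal subgroups. -/
theorem comm_comm_le (A B C : Subgroup G) [A.Normal] [B.Normal] [C.Normal] :
    ⁅⁅A, B⁆, C⁆ ≤ ⁅⁅B, C⁆, A⁆ ⊔ ⁅⁅C, A⁆, B⁆ := by
  let q := QuotientGroup.mk' (⁅⁅B, C⁆, A⁆ ⊔ ⁅⁅C, A⁆, B⁆)
  have hk : q.ker = ⁅⁅B, C⁆, A⁆ ⊔ ⁅⁅C, A⁆, B⁆ := QuotientGroup.ker_mk' _
  rw [← hk, ← Subgroup.map_eq_bot_iff, Subgroup.map_commutator, Subgroup.map_commutator]
  refine Subgroup.commutator_commutator_eq_bot_of_rotate ?_ ?_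
  · rw [← Subgroup.map_commutator, ← Subgroup.map_commutator, Subgroup.map_eq_bot_iff, hk]
    exact le_sup_left
  · rw [← Subgroup.map_commutator, ← Subgroup.map_commutator, Subgroup.map_eq_bot_iff, hk]
    exact le_sup_right

section PGroup

variable [Finite G] (hG : IsPGroup p G) [hp : Fact p.Prime] (htop : PE p (⊤ : Subgroup G))
include hG htop

theorem pe_comm {M N : Subgroup G} (hM : PE p M) (hN : PE p N) : PE p ⁅M, N⁆ := by
  haveI := hM.normal; haveI := hN.normal
  refine ⟨inferInstance, (comm_comm_le M N ⊤).trans (sup_le ?_ ?_)⟩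
  · calc ⁅⁅N, (⊤ : Subgroup G)⁆, M⁆ ≤ ⁅pp p (pp p N), M⁆ := Subgroup.commutator_mono hN.comm le_rfl
      _ = pp p (pp p ⁅M, N⁆) := by
        rw [comm_pp_left hG (pe_pp hG htop hN) hM, comm_pp_left hG hN hM, Subgroup.commutator_comm]
  · calc ⁅⁅(⊤ : Subgroup G), M⁆, N⁆ = ⁅⁅M, (⊤ : Subgroup G)⁆, N⁆ := by
          rw [Subgroup.commutator_comm (⊤ : Subgroup G) M]
      _ ≤ ⁅pp p (pp p M), N⁆ := Subgroup.commutator_mono hM.comm le_rfl
      _ = pp p (pp p ⁅M, N⁆) := by
        rw [comm_pp_left hG (pe_pp hG htop hM) hN, comm_pp_left hG hM hN]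

theorem pe_ppk {N : Subgroup G} (hN : PE p N) : ∀ k, PE p (ppk p k N)
  | 0 => hN
  | k + 1 => by rw [ppk_succ]; exact pe_pp hG htop (pe_ppk hN k)

theorem comm_ppk {M N : Subgroup G} (hM : PE p M) (hN : PE p N) :
    ∀ i j, ⁅ppk p i M, ppk p j N⁆ = ppk p (i + j) ⁅M, N⁆ := by
  intro i
  induction i with
  | zero =>
    intro j
    induction j with
    | zero => rfl
    | succ j ih =>
      rw [ppk_succ, comm_pp_right hG (pe_ppk hG htop hM 0) (pe_ppk hG htop hN j), ih,
        ← ppk_succ, Nat.add_assoc]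
  | succ i ih =>
    intro j
    rw [ppk_succ, comm_pp_left hG (pe_ppk hG htop hM i) (pe_ppk hG htop hN j), ih, ← ppk_succ,
      Nat.add_right_comm]

end PGroup

end Cfsg.Agent.FG72.Alperin
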