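import Mathlib
import Cfsg.Agent.FG72.Alperin.Fixed
import Cfsg.Agent.FG72.Alperin.Powerful

/-!
Invariant sections of a finite `p`-group with an automorphism of order `p` with few fixed points
have bounded rank.
-/

set_option autoImplicit false

namespace Cfsg.Agent.FG72.Alperin

open scoped commutatorElement

theorem card_elementary_le {A : Type*} [AddCommGroup A] [Finite A] {p n : ℕ} [hp : Fact p.Prime]
    (hexp : ∀ a : A, p • a = 0) (f : A →+ A) (hper : ∀ a, f^[p] a = a)
    (hn : Nat.card {a : A // f a = a} ≤ p ^ n) : Nat.card A ≤ p ^ (p * n) := by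
  let E : AddMonoid.End A := f
  have hp0 : (p : AddMonoid.End A) = 0 := AddMonoidHom.ext fun a => by
    exact (AddMonoid.End.natCast_apply p a).trans (hexp a)
  have hEp : E ^ p = 1 := by
    refine AddMonoidHom.ext fun a => ?_
    exact (congrFun (AddMonoid.End.coe_pow _ E p) a).trans (hper a)
  obtain ⟨r, hr⟩ := (show Commute E (-1) from (Commute.one_right E).neg_right).exists_add_pow_prime_eq
    hp.out
  have hneg : (1 : AddMonoid.End A) + (-1) ^ p = 0 := by
    rcases hp.out.eq_two_or_odd' with rfl | hodd
    · rw [neg_one_sq, one_add_one_eq_two]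
      exact_mod_cast hp0
    · rw [hodd.neg_one_pow, add_neg_cancel]
  have hnil : (E + -1) ^ p = 0 := by simp [hr, hEp, hp0, hneg]
  have hk : ∀ k, Nat.card (((E + -1) ^ k : AddMonoid.End A) : A →+ A).ker ≤ p ^ (k * n) := by
    intro k
    induction k with
    | zero =>
      have h : (((E + -1) ^ 0 : AddMonoid.End A) : A →+ A).ker = ⊥ := by
        refine (AddSubgroup.eq_bot_iff_forall _).mpr fun a ha => ?_
        exact ha
      rw [h, AddSubgroup.card_bot, Nat.zero_mul, pow_zero]
    | succ k ih =>
      let K := (((E + -1) ^ (k + 1) : AddMonoid.End A) : A →+ A).ker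
      let g : K →+ A := ((E + -1 : AddMonoid.End A) : A →+ A).comp K.subtype
      have h1 : Nat.card g.range ≤ p ^ (k * n) := by
        refine le_trans ?_ ih
        refine Nat.card_le_card_of_injective (AddSubgroup.inclusion ?_)
          (AddSubgroup.inclusion_injective _)
        rintro _ ⟨a, rfl⟩
        have ha : ((E + -1) ^ (k + 1)) (a : A) = 0 := a.2
        rw [pow_succ] at ha
        exact ha
      have h2 : Nat.card g.ker ≤ p ^ n := by
        refine le_trans ?_ hn
        refine Nat.card_le_card_of_injective (fun a => ⟨((a : K) : A), ?_⟩) ?_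
        · have ha : f ((a : K) : A) + -((a : K) : A) = 0 := a.2
          exact (eq_of_sub_eq_zero (by rw [sub_eq_add_neg]; exact ha))
        · intro a b h
          exact Subtype.ext (Subtype.ext (congrArg Subtype.val h :))
      show Nat.card K ≤ p ^ ((k + 1) * n)
      rw [← g.ker.index_mul_card, AddSubgroup.index_ker, Nat.succ_mul, pow_add]
      exact Nat.mul_le_mul h1 h2
  have h := hk p
  rw [hnil] at h
  have htop : (((0 : AddMonoid.End A)) : A →+ A).ker = ⊤ :=
    (AddSubgroup.eq_top_iff' _).mpr fun a => rfl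
  rwa [htop, AddSubgroup.card_top] at h

variable {P : Type*} [Group P] [Finite P] {p n : ℕ} [hp : Fact p.Prime]

theorem relIndex_section_le (f : P →* P) (hper : ∀ g, f^[p] g = g)
    (hn : Nat.card {g : P // f g = g} ≤ p ^ n) {S N : Subgroup P} [N.Normal]
    (hSf : S.map f ≤ S) (hNf : N.map f ≤ N) (hcomm : ⁅S, S⁆ ≤ N) (hpow : ∀ x ∈ S, x ^ p ∈ N) :
    N.relIndex S ≤ p ^ (p * n) := by
  let π := QuotientGroup.mk' N
  let fS : S →* S := (f.comp S.subtype).codRestrict S fun x => hSf (Subgroup.mem_map_of_mem f x.2)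
  let V := S.map π
  let πS : S →* V := (π.comp S.subtype).codRestrict V fun x => Subgroup.mem_map_of_mem π x.2
  have hsurj : Function.Surjective πS := by
    rintro ⟨_, x, hx, rfl⟩
    exact ⟨⟨x, hx⟩, rfl⟩
  let fbar : P ⧸ N →* P ⧸ N := QuotientGroup.map N N f fun x hx => hNf (Subgroup.mem_map_of_mem f hx)
  let fV : V →* V := (fbar.comp V.subtype).codRestrict V fun v => by
    obtain ⟨x, hx, hxv⟩ := v.2
    exact ⟨f x, hSf (Subgroup.mem_map_of_mem f hx), by
      show π (f x) = fbar (v : P ⧸ N)
      rw [← hxv]; rfl⟩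
  letI : CommGroup V :=
    { (inferInstance : Group V) with
      mul_comm := by
        intro a b
        obtain ⟨x, rfl⟩ := hsurj a
        obtain ⟨y, rfl⟩ := hsurj b
        refine Subtype.ext ?_
        show π (x : P) * π (y : P) = π (y : P) * π (x : P)
        rw [← commutatorElement_eq_one_iff_mul_comm, ← map_commutatorElement, ← MonoidHom.mem_ker,
          QuotientGroup.ker_mk']
        exact hcomm (Subgroup.commutator_mem_commutator x.2 y.2) }
  have hfix : Nat.card {v : V // fV v = v} ≤ p ^ n :=
    ((card_fixed_le fS fV πS hsurj fun x => Subtype.ext rfl).trans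
      (card_fixed_subgroup_le f S fun x hx => hSf (Subgroup.mem_map_of_mem f hx))).trans hn
  have hexpV : ∀ v : V, v ^ p = 1 := by
    intro v
    obtain ⟨x, rfl⟩ := hsurj v
    refine Subtype.ext ?_
    show π (x : P) ^ p = 1
    rw [← map_pow, ← MonoidHom.mem_ker, QuotientGroup.ker_mk']
    exact hpow x x.2
  have hperV : ∀ v : V, fV^[p] v = v := by
    intro v
    obtain ⟨x, rfl⟩ := hsurj v
    have hit : ∀ k, ∀ x : S, ∃ y : S, (y : P) = f^[k] (x : P) ∧ fV^[k] (πS x) = πS y := by
      intro k
      induction k with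
      | zero => exact fun x => ⟨x, rfl, rfl⟩
      | succ k ih =>
        intro x
        obtain ⟨y, hy, hy'⟩ := ih x
        refine ⟨fS y, ?_, ?_⟩
        · rw [Function.iterate_succ_apply', ← hy]; rfl
        · rw [Function.iterate_succ_apply', hy']; exact Subtype.ext rfl
    obtain ⟨y, hy, hy'⟩ := hit p x
    rw [hy', Subtype.ext (hy.trans (hper _))]
  have h : Nat.card V ≤ p ^ (p * n) := by
    have := card_elementary_le (A := Additive V) (p := p) (n := n) (fun a => hexpV a.toMul)
      fV.toAdditive hperV hfix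
    exact this
  have hc := Subgroup.relIndex_ker (K := S) π
  rw [QuotientGroup.ker_mk'] at hc
  rw [hc]
  exact h

omit [Finite P] hp in
theorem comm_lcs_le_descend {S : Subgroup P} [S.Normal] :
    ∀ (j : ℕ) (T : ℕ → Subgroup P), (∀ i, (T i).Normal) → T 0 = S →
      (∀ i, ⁅T i, (⊤ : Subgroup P)⁆ ≤ T (i + 1)) →
      ∀ i, ⁅T i, (⊤ : Subgroup P).lowerCentralSeries j⁆ ≤ T (i + j + 1) := by
  intro j
  induction j with
  | zero => exact fun T _ _ hT i => hT i
  | succ j ih =>
    intro T hTn hT0 hT i
    haveI := hTn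
    rw [Subgroup.lowerCentralSeries_succ, Subgroup.commutator_comm]
    refine (comm_comm_le _ _ _).trans (sup_le ?_ ?_)
    · rw [Subgroup.commutator_comm (⊤ : Subgroup P) (T i)]
      refine (Subgroup.commutator_mono (hT i) le_rfl).trans ?_
      exact (ih T hTn hT0 hT (i + 1)).trans (le_of_eq (by congr 1; omega))
    · refine (Subgroup.commutator_mono (ih T hTn hT0 hT i) le_rfl).trans ?_
      exact (hT (i + j + 1)).trans (le_of_eq (by congr 1))

/-- Iterated commutators with the whole group, modulo `N`. -/
def descSeq (S N : Subgroup P) : ℕ → Subgroup P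
  | 0 => S
  | i + 1 => ⁅descSeq S N i, (⊤ : Subgroup P)⁆ ⊔ N

/-- A normal section of order at most `p ^ a` is centralised by a deep term of the lower central
series. -/
theorem comm_lcs_le_of_relIndex (hP : IsPGroup p P) {S N : Subgroup P} [S.Normal] [N.Normal]
    (hNS : N ≤ S) {a : ℕ} (h : N.relIndex S ≤ p ^ a) :
    ⁅S, (⊤ : Subgroup P).lowerCentralSeries a⁆ ≤ N := by
  set T : ℕ → Subgroup P := descSeq S N with hT
  have hTn : ∀ i, (T i).Normal := by
    intro i
    induction i with
    | zero => exact ‹S.Normal›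
    | succ i ih =>
      haveI := ih
      show (⁅descSeq S N i, (⊤ : Subgroup P)⁆ ⊔ N).Normal
      haveI : (descSeq S N i).Normal := ih
      infer_instance
  have hNT : ∀ i, N ≤ T i := by
    intro i
    induction i with
    | zero => exact hNS
    | succ i _ => exact le_sup_right
  have hdesc : ∀ i, i ≤ a → N.relIndex (T i) ≤ p ^ (a - i) := by
    intro i
    induction i with
    | zero => exact fun _ => h
    | succ i ih =>
      intro hi
      haveI := hTn i
      have hle : T (i + 1) ≤ T i := sup_le (Subgroup.commutator_le_left _ _) (hNT i)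
      rcases hle.lt_or_eq with hlt | heq
      · have h2 := Subgroup.relIndex_mul_relIndex N (T (i + 1)) (T i) (hNT (i + 1)) hle
        obtain ⟨b, hb⟩ : ∃ b, (T (i + 1)).relIndex (T i) = p ^ b :=
          (hP.to_subgroup (T i)).index _
        have hb0 : b ≠ 0 := by
          rintro rfl
          rw [pow_zero, Subgroup.relIndex_eq_one] at hb
          exact hlt.not_ge hb
        have h3 := ih (by omega)
        rw [← h2, hb, show a - i = (a - (i + 1)) + 1 by omega, pow_succ] at h3
        refine Nat.le_of_mul_le_mul_right (le_trans ?_ h3) hp.out.pos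
        exact Nat.mul_le_mul_left _ (Nat.le_self_pow hb0 p)
      · have h2 : T i ≤ N := le_of_le_sup_comm hP (heq.symm.le.trans (le_of_eq (sup_comm _ _)))
        have h4 : N.relIndex (T (i + 1)) = 1 := Subgroup.relIndex_eq_one.mpr (hle.trans h2)
        rw [h4]
        exact Nat.one_le_pow _ _ hp.out.pos
  have hTa : T a ≤ N := by
    have h1 := hdesc a le_rfl
    rw [Nat.sub_self, pow_zero] at h1
    have h0 : N.relIndex (T a) ≠ 0 := Subgroup.index_ne_zero_of_finite (H := N.subgroupOf (T a))
    exact Subgroup.relIndex_eq_one.mp (by omega)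
  refine (comm_lcs_le_descend (S := S) a T hTn rfl (fun _ => le_sup_left) 0).trans ?_
  show T (0 + a + 1) ≤ N
  haveI := hTn a
  rw [Nat.zero_add]
  exact sup_le ((Subgroup.commutator_le_left _ _).trans hTa) le_rfl

end Cfsg.Agent.FG72.Alperin
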