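import Mathlib
import Cfsg.Agent.FG72.Alperin.Fixed
import Cfsg.Agent.FG72.Lie.Cyclotomic

/-!
For a finite `p`-group with an automorphism of order `p` with few fixed points, a bounded power of
a bounded derived term lies deep in the lower central series.
-/

set_option autoImplicit false

namespace Cfsg.Agent.FG72.Alperin

open LieGrad Cyclo Assoc

section Lie

variable {L : Type*} [AddCommGroup L] {p : ℕ} (B : L →+ L →+ L)

/-- The derived series of a Lie ring. -/
def dBr : ℕ → AddSubgroup L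
  | 0 => ⊤
  | m + 1 => AddSubgroup.closure {z | ∃ x ∈ dBr m, ∃ y ∈ dBr m, B x y = z}

variable [NeZero p] {B} {A : L →+ L}

theorem eig_mul_mem (hA : ∀ x y, A (B x y) = B (A x) (A y)) {a b : ZMod p} {x y : Ext L p}
    (hx : x ∈ eig A a) (hy : y ∈ eig A b) : extBr B x y ∈ eig A (a + b) := by
  obtain ⟨f, hf, rfl⟩ := hx
  obtain ⟨g, hg, rfl⟩ := hy
  refine ⟨conv B f g, ?_, rfl⟩
  have hc : pw A (conv B f g) = conv B (pw A f) (pw A g) := by
    funext k
    simp [pw_apply, conv_apply, map_sum, hA]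
  have key : (pw A - shift (a + b) : (ZMod p → L) →+ (ZMod p → L)) (conv B f g) =
      conv B ((pw A - shift a : (ZMod p → L) →+ (ZMod p → L)) f) (pw A g) +
        conv B (shift a f) ((pw A - shift b : (ZMod p → L) →+ (ZMod p → L)) g) := by
    simp only [AddMonoidHom.sub_apply, map_sub, ← conv_shift, hc]
    abel
  show (pw A - shift (a + b) : (ZMod p → L) →+ (ZMod p → L)) (conv B f g) ∈ consts L p
  rw [key]
  exact add_mem (conv_mem_left B hf _) (conv_mem_right B _ hg)

theorem nsmul_eig_isGrad {N : ℕ} (hA : ∀ x y, A (B x y) = B (A x) (A y))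
    (hfix : ∀ x, A x = x → N • x = 0) :
    IsGrad (extBr B) (fun k : ZMod p => (eig A k).map (nsmulAddMonoidHom N)) where
  zero := by
    rw [eq_bot_iff]
    rintro _ ⟨_, ⟨f, hf, rfl⟩, rfl⟩
    obtain ⟨c, hc⟩ := mem_consts.mp
      (show ((pw A - shift 0 : (ZMod p → L) →+ (ZMod p → L))) f ∈ consts L p from hf)
    simp only [AddMonoidHom.sub_apply, Pi.sub_apply, pw_apply, shift_apply, sub_zero] at hc
    rw [AddSubgroup.mem_bot]
    refine (QuotientAddGroup.eq_zero_iff (N • f)).mpr (mem_consts.mpr ⟨N • f 0, fun i => ?_⟩)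
    rw [Pi.smul_apply, ← sub_eq_zero, ← nsmul_sub]
    refine hfix _ ?_
    rw [map_sub, sub_eq_sub_iff_sub_eq_sub, hc, hc]
  mul_mem := by
    rintro a b _ _ ⟨x, hx, rfl⟩ ⟨y, hy, rfl⟩
    refine ⟨N • extBr B x y, nsmul_mem (eig_mul_mem hA hx hy) N, ?_⟩
    show N • (N • extBr B x y) = extBr B (N • x) (N • y)
    rw [map_nsmul (extBr B) N x, map_nsmul _ N y]
    rfl

theorem nsmul_dBr_eq_zero [Fact p.Prime] (hB : IsLie B)
    (hA : ∀ x y, A (B x y) = B (A x) (A y)) (hper : ∀ x, A^[p] x = x) {n : ℕ}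
    (hfix : ∀ x, A x = x → p ^ n • x = 0) {x : L} (hx : x ∈ dBr B (2 ^ (p - 1) - 1)) :
    p ^ ((n + 1) * 2 ^ (2 ^ (p - 1) - 1)) • x = 0 := by
  have hgrad := nsmul_eig_isGrad (p := p) hA hfix
  set D : ZMod p → AddSubgroup (Ext L p) :=
    fun k => (eig A k).map (nsmulAddMonoidHom (p ^ n)) with hD
  have key : ∀ (m : ℕ), ∀ x ∈ dBr B m, p ^ ((n + 1) * 2 ^ m) • del L p x ∈
      AddSubgroup.closure (⋃ k, (DS (extBr B) D m k : Set (Ext L p))) := by
    intro m
    induction m with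
    | zero =>
      intro x _
      rw [pow_zero, mul_one, pow_succ, mul_smul]
      have h1 := nsmul_mem_closure_eig hper (Pi.single (0 : ZMod p) x)
      have h2 := AddSubgroup.mem_map_of_mem (nsmulAddMonoidHom (p ^ n)) h1
      rw [AddMonoidHom.map_closure, Set.image_iUnion] at h2
      exact h2
    | succ m ih =>
      intro x hx
      refine (AddSubgroup.closure_le ((AddSubgroup.closure _).comap
        ((nsmulAddMonoidHom (p ^ ((n + 1) * 2 ^ (m + 1)))).comp (del L p)))).mpr ?_ hx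
      rintro _ ⟨u, hu, v, hv, rfl⟩
      show p ^ ((n + 1) * 2 ^ (m + 1)) • del L p (B u v) ∈ AddSubgroup.closure _
      have h2 : p ^ ((n + 1) * 2 ^ (m + 1)) • del L p (B u v) =
          extBr B (p ^ ((n + 1) * 2 ^ m) • del L p u) (p ^ ((n + 1) * 2 ^ m) • del L p v) := by
        rw [map_nsmul (extBr B), map_nsmul _ (p ^ ((n + 1) * 2 ^ m)), ← extBr_del,
          show ∀ (c : ℕ) (u' v' : Ext L p), (c • extBr B u') v' = c • extBr B u' v' from
            fun _ _ _ => rfl, smul_smul, ← pow_add, pow_succ, ← mul_assoc, mul_two]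
      rw [h2]
      refine closure_bracket_mem ?_ (ih u hu) (ih v hv)
      intro a ha b hb
      obtain ⟨i, hi⟩ := Set.mem_iUnion.mp ha
      obtain ⟨j, hj⟩ := Set.mem_iUnion.mp hb
      exact AddSubgroup.subset_closure (Set.mem_iUnion.mpr
        ⟨i + j, AddSubgroup.subset_closure ⟨i, j, a, b, hi, hj, rfl, rfl⟩⟩)
  have hbot : p ^ ((n + 1) * 2 ^ (2 ^ (p - 1) - 1)) • del L p x ∈ (⊥ : AddSubgroup (Ext L p)) := by
    refine (AddSubgroup.closure_le _).mpr (Set.iUnion_subset fun k y hy => ?_) (key _ x hx)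
    rw [DS_eq_bot (extBr_isLie _ hB) hgrad k] at hy
    exact hy
  rw [AddSubgroup.mem_bot, ← map_nsmul] at hbot
  exact del_injective (Nat.Prime.two_le Fact.out) (hbot.trans (map_zero _).symm)

end Lie

section Group

variable {G : Type*} [Group G]

theorem ι_derived_mem (m : ℕ) : ∀ g ∈ derivedSeries G m, ∀ w, w + 1 = 2 ^ m →
    g ∈ gam G w ∧ ι w g ∈ dBr (br G) m := by
  induction m with
  | zero =>
    intro g _ w hw
    have : w = 0 := by rw [pow_zero] at hw; omega
    subst this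
    exact ⟨Subgroup.mem_top g, trivial⟩
  | succ m ih =>
    intro g hg w hw
    obtain ⟨v, hv⟩ : ∃ v, v + 1 = 2 ^ m :=
      ⟨2 ^ m - 1, Nat.sub_add_cancel Nat.one_le_two_pow⟩
    have hwv : v + v + 1 = w := by rw [pow_succ, ← hv] at hw; omega
    subst hwv
    let S : Subgroup G :=
      { carrier := {g | g ∈ gam G (v + v + 1) ∧ ι (v + v + 1) g ∈ dBr (br G) (m + 1)}
        one_mem' := ⟨one_mem _, by rw [ι_one]; exact zero_mem _⟩
        mul_mem' := fun ha hb => ⟨mul_mem ha.1 hb.1, by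
          rw [ι_mul ha.1 hb.1]; exact add_mem ha.2 hb.2⟩
        inv_mem' := fun ha => ⟨inv_mem ha.1, by rw [ι_inv ha.1]; exact neg_mem ha.2⟩ }
    have hle : derivedSeries G (m + 1) ≤ S := by
      rw [derivedSeries_succ, Subgroup.commutator_le]
      intro a ha b hb
      obtain ⟨ha1, ha2⟩ := ih a ha v hv
      obtain ⟨hb1, hb2⟩ := ih b hb v hv
      refine ⟨comm_mem ha1 hb1, ?_⟩
      rw [← br_ι ha1 hb1]
      exact AddSubgroup.subset_closure ⟨_, ha2, _, hb2, rfl⟩
    exact hle hg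

theorem pow_mem_lcs [Finite G] {p n : ℕ} [hp : Fact p.Prime] (hG : IsPGroup p G) (f : G →* G)
    (hper : ∀ g, f^[p] g = g) (hn : Nat.card {g : G // f g = g} ≤ p ^ n) {g : G}
    (hg : g ∈ derivedSeries G (2 ^ (p - 1) - 1)) :
    g ^ p ^ ((n + 1) * 2 ^ (2 ^ (p - 1) - 1)) ∈
      (⊤ : Subgroup G).lowerCentralSeries (2 ^ (2 ^ (p - 1) - 1)) := by
  haveI : NeZero p := ⟨hp.out.ne_zero⟩
  obtain ⟨w, hw⟩ : ∃ w, w + 1 = 2 ^ (2 ^ (p - 1) - 1) :=
    ⟨2 ^ (2 ^ (p - 1) - 1) - 1, Nat.sub_add_cancel Nat.one_le_two_pow⟩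
  obtain ⟨hgw, hι⟩ := ι_derived_mem _ g hg w hw
  have hfix : ∀ x, lmap f x = x → p ^ n • x = 0 := by
    intro x hx
    refine DirectSum.ext_component ℤ fun v => ?_
    show (p ^ n • x) v = 0
    obtain ⟨a, ha⟩ := QuotientGroup.mk_surjective (Additive.toMul (x v))
    have ha' : x v = Additive.ofMul (QuotientGroup.mk a) := by rw [ha]; rfl
    have h2 := apply_lmap f x v a ha'
    rw [hx, ha', Additive.ofMul.apply_eq_iff_eq] at h2
    let fv : gam G v →* gam G v :=
      (f.comp (gam G v).subtype).codRestrict _ fun x => map_mem_gam f x.2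
    let q : Gr G v →* Gr G v := QuotientGroup.map _ _ fv fun x hx =>
      show fv x ∈ (gam G (v + 1)).subgroupOf (gam G v) from
        Subgroup.mem_subgroupOf.mpr (map_mem_gam f (Subgroup.mem_subgroupOf.mp hx))
    have hcard : Nat.card {y : Gr G v // q y = y} ≤ p ^ n :=
      ((card_fixed_le fv q (QuotientGroup.mk' _) (QuotientGroup.mk'_surjective _)
        fun _ => rfl).trans (card_fixed_subgroup_le f (gam G v) fun x hx => map_mem_gam f hx)).trans hn
    have h3 : (QuotientGroup.mk a : Gr G v) ^ p ^ n = 1 :=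
      pow_eq_one_of_fixed ((hG.to_subgroup _).to_quotient _) q hcard h2.symm
    show p ^ n • x v = 0
    rw [ha', ← ofMul_pow, h3]
    rfl
  have h0 := nsmul_dBr_eq_zero br_isLie (lmap_br f) (lmap_iterate_eq_self f hper) hfix hι
  have hpow : ∀ k, ι w (g ^ k) = k • ι w g := by
    intro k
    induction k with
    | zero => rw [pow_zero, ι_one, zero_nsmul]
    | succ k ih => rw [pow_succ, ι_mul (pow_mem hgw k) hgw, ih, succ_nsmul]
  rw [← hw]
  exact mem_of_ι_eq_zero (pow_mem hgw _) ((hpow _).trans (by rw [hw] at *; exact h0))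

end Group

end Cfsg.Agent.FG72.Alperin
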