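import Mathlib
import Cfsg.Agent.FG72.Alperin.Powerful
import Cfsg.Agent.FG72.Alperin.LieBound

/-!
The derived length of a powerful `p`-group of bounded rank with an automorphism of order `p` with
few fixed points is bounded.
-/

set_option autoImplicit false

namespace Cfsg.Agent.FG72.Alperin

open scoped commutatorElement

variable {G H : Type*} [Group G] [Group H] {p : ℕ}

/-- The derived series of a subgroup. -/
def dS : ℕ → Subgroup G → Subgroup G
  | 0, M => M
  | k + 1, M => ⁅dS k M, dS k M⁆

theorem dS_mono {M N : Subgroup G} (h : M ≤ N) : ∀ k, dS k M ≤ dS k N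
  | 0 => h
  | k + 1 => Subgroup.commutator_mono (dS_mono h k) (dS_mono h k)

theorem dS_le_self (M : Subgroup G) : ∀ k, dS k M ≤ M
  | 0 => le_rfl
  | k + 1 => ((Subgroup.commutator_mono (dS_le_self M k) (dS_le_self M k)).trans
      (Subgroup.commutator_le_self M))

theorem dS_add (a : ℕ) (M : Subgroup G) : ∀ b, dS (b + a) M = dS b (dS a M)
  | 0 => by rw [Nat.zero_add]; rfl
  | b + 1 => by
    rw [show b + 1 + a = (b + a) + 1 by omega]
    show ⁅dS (b + a) M, dS (b + a) M⁆ = ⁅dS b (dS a M), dS b (dS a M)⁆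
    rw [dS_add a M b]

theorem dS_bot : ∀ k, dS k (⊥ : Subgroup G) = ⊥
  | 0 => rfl
  | k + 1 => by
    show ⁅dS k (⊥ : Subgroup G), dS k ⊥⁆ = ⊥
    rw [dS_bot k, Subgroup.commutator_bot_left]

theorem map_dS (f : G →* H) (M : Subgroup G) : ∀ k, (dS k M).map f = dS k (M.map f)
  | 0 => rfl
  | k + 1 => by
    show (⁅dS k M, dS k M⁆).map f = _
    rw [Subgroup.map_commutator, map_dS f M k]
    rfl

theorem dS_top : ∀ k, dS k (⊤ : Subgroup G) = derivedSeries G k
  | 0 => rfl
  | k + 1 => by
    show ⁅dS k (⊤ : Subgroup G), dS k ⊤⁆ = _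
    rw [dS_top k, derivedSeries_succ]

theorem dS_eq_map (M : Subgroup G) (k : ℕ) : dS k M = (derivedSeries M k).map M.subtype := by
  rw [← dS_top, map_dS, ← MonoidHom.range_eq_map, Subgroup.range_subtype]

variable [Finite G] (hG : IsPGroup p G) [hp : Fact p.Prime] (htop : PE p (⊤ : Subgroup G))
include hG htop

theorem pe_dS {M : Subgroup G} (hM : PE p M) : ∀ k, PE p (dS k M)
  | 0 => hM
  | k + 1 => pe_comm hG htop (pe_dS hM k) (pe_dS hM k)

theorem dS_ppk {M : Subgroup G} (hM : PE p M) (i : ℕ) :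
    ∀ k, dS k (ppk p i M) = ppk p (2 ^ k * i) (dS k M)
  | 0 => by simp only [pow_zero, one_mul]; rfl
  | k + 1 => by
    show ⁅dS k (ppk p i M), dS k (ppk p i M)⁆ = ppk p _ ⁅dS k M, dS k M⁆
    rw [dS_ppk hM i k, comm_ppk hG htop (pe_dS hG htop hM k) (pe_dS hG htop hM k)]
    congr 1
    ring

theorem lcs_ppk {M : Subgroup G} (hM : PE p M) (i : ℕ) :
    ∀ j, (ppk p i M).lowerCentralSeries j ≤ ppk p ((j + 1) * i) M
  | 0 => by rw [Nat.zero_add, one_mul]; exact le_rfl
  | j + 1 => by
    refine (Subgroup.commutator_mono (lcs_ppk hM i j) le_rfl).trans ?_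
    rw [comm_ppk hG htop hM hM, show (j + 1) * i + i = (j + 1 + 1) * i by ring]
    exact ppk_mono (by haveI := hM.normal; exact Subgroup.commutator_le_left M M) _

theorem dS_le_ppk_linear {M : Subgroup G} (hM : PE p M) : ∀ t, dS t M ≤ ppk p t M
  | 0 => le_rfl
  | t + 1 => by
    refine (Subgroup.commutator_mono (dS_le_ppk_linear hM t) (dS_le_ppk_linear hM t)).trans ?_
    rw [comm_ppk hG htop hM hM]
    refine (ppk_mono ((Subgroup.commutator_mono le_rfl le_top).trans hM.comm) (t + t)).trans ?_
    rw [show pp p (pp p M) = ppk p 2 M from rfl, ← ppk_add]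
    exact ppk_antitone (by omega)

section Segment

variable {M : Subgroup G} (hM : PE p M)
include hM

theorem ppk_succ_relIndex (j : ℕ) :
    (ppk p (j + 1 + 1) M).relIndex (ppk p (j + 1) M) ≤ (ppk p (j + 1) M).relIndex (ppk p j M) ∧
      ((ppk p (j + 1 + 1) M).relIndex (ppk p (j + 1) M) = (ppk p (j + 1) M).relIndex (ppk p j M) →
        ∀ x ∈ ppk p j M, x ^ p ∈ ppk p (j + 1 + 1) M → x ∈ ppk p (j + 1) M) := by
  haveI := (pe_ppk hG htop hM (j + 1 + 1)).normal
  let π := QuotientGroup.mk' (ppk p (j + 1 + 1) M)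
  have hcomm : ∀ x ∈ ppk p j M, ∀ y, Commute (π x) (π y) := fun x hx y => by
    refine commutatorElement_eq_one_iff_mul_comm.mp ?_
    rw [← map_commutatorElement, ← MonoidHom.mem_ker, QuotientGroup.ker_mk', ppk_succ, ppk_succ]
    exact (pe_ppk hG htop hM j).comm
      (Subgroup.commutator_mem_commutator hx (Subgroup.mem_top y))
  let f : ppk p j M →* G ⧸ ppk p (j + 1 + 1) M :=
    MonoidHom.mk' (fun x => π (x : G) ^ p)
      (fun x y => by rw [Subgroup.coe_mul, map_mul, (hcomm x x.2 y).mul_pow])
  have hrange : f.range = (ppk p (j + 1) M).map π := by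
    refine le_antisymm ?_ ?_
    · rintro _ ⟨x, rfl⟩
      exact ⟨(x : G) ^ p, by rw [ppk_succ]; exact pow_mem_pp x.2, map_pow π _ _⟩
    · rw [Subgroup.map_le_iff_le_comap, ppk_succ]
      exact pp_le fun x hx => ⟨⟨x, hx⟩, (map_pow π _ _).symm⟩
  have hcard : Nat.card f.range = (ppk p (j + 1 + 1) M).relIndex (ppk p (j + 1) M) := by
    have h := (Subgroup.relIndex_ker (K := ppk p (j + 1) M) π).symm
    rw [QuotientGroup.ker_mk'] at h
    rw [hrange]
    exact h
  have hle : (ppk p (j + 1) M).subgroupOf (ppk p j M) ≤ f.ker := by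
    intro x hx
    rw [MonoidHom.mem_ker]
    show π (x : G) ^ p = 1
    rw [← map_pow, ← MonoidHom.mem_ker, QuotientGroup.ker_mk', ppk_succ]
    exact pow_mem_pp (Subgroup.mem_subgroupOf.mp hx)
  rw [← hcard, ← Subgroup.index_ker]
  refine ⟨?_, fun heq x hx hxp => ?_⟩
  · exact Nat.le_of_dvd (Nat.pos_of_ne_zero Subgroup.index_ne_zero_of_finite)
      (Subgroup.index_dvd_of_le hle)
  · have hker : (ppk p (j + 1) M).subgroupOf (ppk p j M) = f.ker := by
      by_contra hne
      exact absurd heq (Subgroup.index_strictAnti (lt_of_le_of_ne hle hne)).ne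
    have : (⟨x, hx⟩ : ppk p j M) ∈ f.ker := by
      rw [MonoidHom.mem_ker]
      show π x ^ p = 1
      rw [← map_pow, ← MonoidHom.mem_ker, QuotientGroup.ker_mk']
      exact hxp
    rw [← hker] at this
    exact Subgroup.mem_subgroupOf.mp this

theorem mem_of_pow_mem {q e : ℕ}
    (he : ∀ j < e, (ppk p (j + 1) M).relIndex (ppk p j M) = q) {x : G} (hx : x ∈ M) {a b : ℕ}
    (hb : b ≤ e) (hxa : x ^ p ^ a ∈ ppk p b M) : x ∈ ppk p (b - a) M := by
  suffices h : ∀ j ≤ b - a, x ∈ ppk p j M from h _ le_rfl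
  intro j
  induction j with
  | zero => exact fun _ => hx
  | succ j ih =>
    intro hj
    have hxj := ih (by omega)
    have hdown : ∀ s t, s + t = a → x ^ p ^ t ∈ ppk p (j + 1 + t) M := by
      intro s
      induction s with
      | zero =>
        intro t ht
        rw [Nat.zero_add] at ht
        subst ht
        exact ppk_antitone (by omega) hxa
      | succ s ihs =>
        intro t ht
        have hy : x ^ p ^ t ∈ ppk p (j + t) M := by
          rw [Nat.add_comm j t, ppk_add]
          exact pow_mem_ppk hxj t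
        have hyp := ihs (t + 1) (by omega)
        rw [pow_succ, pow_mul, show j + 1 + (t + 1) = j + t + 1 + 1 by omega] at hyp
        rw [show j + 1 + t = j + t + 1 by omega]
        exact (ppk_succ_relIndex hG htop hM (j + t)).2
          ((he _ (by omega)).trans (he _ (by omega)).symm) _ hy hyp
    simpa using hdown a 0 (Nat.add_zero a)

end Segment

/-- The number of derived steps needed in a segment of constant rank. -/
def segLen (p n : ℕ) : ℕ :=
  (2 ^ (p - 1) - 1) +
    (2 ^ (2 ^ (p - 1) - 1) + 1) * ((n + 1) * 2 ^ (2 ^ (p - 1) - 1) + 2)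

variable (f : G →* G) (hper : ∀ g, f^[p] g = g) {n : ℕ}
  (hn : Nat.card {g : G // f g = g} ≤ p ^ n)
include hper hn

theorem dS_segLen_le {M : Subgroup G} (hM : PE p M) (hMf : M.map f ≤ M) {q e : ℕ}
    (he : ∀ j < e, (ppk p (j + 1) M).relIndex (ppk p j M) = q) :
    dS (segLen p n) M ≤ ppk p e M := by
  unfold segLen
  set K := 2 ^ (p - 1) - 1 with hK
  set m := 2 ^ K with hm
  set c := (n + 1) * m with hc
  set t := (m + 1) * (c + 2) with ht
  have hpow : ∀ i, (m + 1) * i ≤ e → dS K M ≤ ppk p (i - c) M := by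
    intro i hi g hg
    have hS : ∀ x ∈ ppk p i M, f x ∈ ppk p i M := fun x hx =>
      ((map_ppk f M i).trans_le (ppk_mono hMf i)) (Subgroup.mem_map_of_mem f hx)
    let fS : ppk p i M →* ppk p i M :=
      (f.comp (ppk p i M).subtype).codRestrict _ fun x => hS x x.2
    have hperS : ∀ x, fS^[p] x = x := by
      have hit : ∀ k (x : ppk p i M), ((fS^[k] x : ppk p i M) : G) = f^[k] (x : G) := by
        intro k
        induction k with
        | zero => exact fun _ => rfl
        | succ k ih =>
          intro x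
          rw [Function.iterate_succ_apply', Function.iterate_succ_apply', ← ih]
          rfl
      exact fun x => Subtype.ext ((hit p x).trans (hper _))
    have hy : g ^ p ^ (m * i) ∈ dS K (ppk p i M) := by
      rw [dS_ppk hG htop hM i K]
      exact pow_mem_ppk hg _
    rw [dS_eq_map] at hy
    obtain ⟨y, hy, hyg⟩ := hy
    have h1 := pow_mem_lcs (hG.to_subgroup _) fS hperS
      ((card_fixed_subgroup_le f _ hS).trans hn) hy
    have h2 := Subgroup.mem_map_of_mem (ppk p i M).subtype h1
    rw [Subgroup.top_subtype_lowerCentralSeries, map_pow, hyg, ← pow_mul, ← pow_add] at h2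
    have h3 := lcs_ppk hG htop hM i _ h2
    have h4 := mem_of_pow_mem hG htop hM he (dS_le_self M K hg) hi h3
    rwa [show (m + 1) * i - (m * i + c) = i - c by rw [add_mul, one_mul]; omega] at h4
  set i := e / (m + 1) with hi
  have hi1 : (m + 1) * i ≤ e := Nat.mul_div_le e (m + 1)
  have hi2 : e < (m + 1) * (i + 1) := Nat.lt_mul_div_succ e (Nat.succ_pos m)
  have hmono : ∀ a b, a ≤ b → dS b M ≤ dS a M := fun a b hab => by
    obtain ⟨d, rfl⟩ := Nat.exists_eq_add_of_le hab
    rw [Nat.add_comm, dS_add]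
    exact dS_le_self _ d
  rcases Nat.eq_zero_or_pos (i - c) with ha | ha
  · refine ((hmono t (K + t) (by omega)).trans (dS_le_ppk_linear hG htop hM t)).trans
      (ppk_antitone ?_)
    have : (m + 1) * (i + 1) ≤ t := Nat.mul_le_mul_left _ (by omega)
    omega
  · rw [Nat.add_comm K t, dS_add]
    refine (dS_mono (hpow i hi1) t).trans ?_
    rw [dS_ppk hG htop hM]
    refine (ppk_mono (dS_le_self M t) _).trans (ppk_antitone ?_)
    calc e ≤ (m + 1) * (i + 1) := hi2.le
      _ ≤ (m + 1) * ((c + 2) * (i - c)) := Nat.mul_le_mul_left _ (by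
          obtain ⟨a, ha'⟩ : ∃ a, i - c = a + 1 := ⟨i - c - 1, by omega⟩
          rw [ha', Nat.mul_add, mul_one]
          have : a ≤ (c + 2) * a := Nat.le_mul_of_pos_left a (by omega)
          omega)
      _ = t * (i - c) := by rw [ht, mul_assoc]
      _ ≤ 2 ^ t * (i - c) := Nat.mul_le_mul_right _ Nat.lt_two_pow_self.le

/-- The derived length is bounded in terms of the rank. -/
theorem dS_eq_bot : ∀ (d : ℕ) {M : Subgroup G}, PE p M → M.map f ≤ M →
    (pp p M).relIndex M ≤ p ^ d → dS (d * segLen p n) M = ⊥ := by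
  intro d
  induction d with
  | zero =>
    intro M hM _ hd
    rw [pow_zero] at hd
    have h0 : (pp p M).relIndex M ≠ 0 := Subgroup.index_ne_zero_of_finite
    have hle : M ≤ pp p M := Subgroup.relIndex_eq_one.mp (by omega)
    rw [Nat.zero_mul]
    exact eq_bot_of_le_pp hG hM.normal hle
  | succ d ih =>
    intro M hM hMf hd
    classical
    set q := (pp p M).relIndex M with hq
    have hex : ∀ j, (ppk p (j + 1) M).relIndex (ppk p j M) ≤ q := by
      intro j
      induction j with
      | zero => rw [ppk_succ, ppk_zero]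
      | succ j ihj => exact (ppk_succ_relIndex hG htop hM j).1.trans ihj
    by_cases hq1 : q = 1
    · rw [eq_bot_of_le_pp hG hM.normal (Subgroup.relIndex_eq_one.mp hq1)]
      exact dS_bot _
    have hdrop : ∃ e, (ppk p (e + 1) M).relIndex (ppk p e M) ≠ q := by
      by_contra hc
      simp only [not_exists, not_not] at hc
      have hstrict : ∀ j, Nat.card (ppk p j M) * q ^ j = Nat.card M := by
        intro j
        induction j with
        | zero => rw [pow_zero, mul_one, ppk_zero]
        | succ j ihj =>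
          rw [← ihj, pow_succ', ← mul_assoc]
          congr 1
          rw [← hc j]
          rw [← Subgroup.relIndex_bot_left, ← Subgroup.relIndex_bot_left]
          exact Subgroup.relIndex_mul_relIndex _ _ _ bot_le (ppk_antitone (by omega))
      have h1 := hstrict (Nat.card M)
      have h0 : q ≠ 0 := Subgroup.index_ne_zero_of_finite
      have h2 : 2 ^ Nat.card M ≤ q ^ Nat.card M := Nat.pow_le_pow_left (by omega) _
      have h3 : 0 < Nat.card (ppk p (Nat.card M) M) := Nat.card_pos
      have h4 : q ^ Nat.card M ≤ Nat.card M := (Nat.le_mul_of_pos_left _ h3).trans h1.le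
      have h5 : Nat.card M < 2 ^ Nat.card M := Nat.lt_two_pow_self
      omega
    let e := Nat.find hdrop
    have he : ∀ j < e, (ppk p (j + 1) M).relIndex (ppk p j M) = q := fun j hj =>
      not_not.mp (Nat.find_min hdrop hj)
    have hlt : (pp p (ppk p e M)).relIndex (ppk p e M) < q := by
      rw [← ppk_succ]
      exact lt_of_le_of_ne (hex e) (Nat.find_spec hdrop)
    obtain ⟨a, ha⟩ : ∃ a, (pp p (ppk p e M)).relIndex (ppk p e M) = p ^ a :=
      (hG.to_subgroup (ppk p e M)).index _
    have hae : p ^ a < p ^ (d + 1) := ha ▸ lt_of_lt_of_le hlt hd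
    have had : a ≤ d := Nat.lt_succ_iff.mp ((Nat.pow_lt_pow_iff_right hp.out.one_lt).mp hae)
    have hinv : (ppk p e M).map f ≤ ppk p e M := (map_ppk f M e).trans_le (ppk_mono hMf e)
    have := ih (pe_ppk hG htop hM e) hinv (ha.trans_le (Nat.pow_le_pow_right hp.out.pos had))
    refine le_bot_iff.mp (le_trans ?_ this.le)
    rw [Nat.succ_mul, dS_add]
    exact dS_mono (dS_segLen_le hG htop f hper hn hM hMf he) _

end Cfsg.Agent.FG72.Alperin
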