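import Mathlib
import Cfsg.Agent.FG72.Alperin.Uniform
import Cfsg.Agent.FG72.Alperin.Sections

/-!
Alperin's theorem for finite `p`-groups: the derived length is bounded by the order of the
automorphism and the number of fixed points.
-/

set_option autoImplicit false

namespace Cfsg.Agent.FG72.Alperin

open scoped commutatorElement

/-- The derived length bound for `p`-groups. -/
def pLen (p n : ℕ) : ℕ := p * n * segLen p n + (p * n + p * n)

variable {P : Type*} [Group P] [Finite P] {p n : ℕ} [hp : Fact p.Prime] (hP : IsPGroup p P)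
  (f : P →* P) (hper : ∀ g, f^[p] g = g) (hn : Nat.card {g : P // f g = g} ≤ p ^ n)
include hP hper hn

theorem deep_powerful {S : Subgroup P} [S.Normal] (hSf : S.map f ≤ S)
    (hS : S ≤ (⊤ : Subgroup P).lowerCentralSeries (p * n + p * n)) :
    ⁅S, S⁆ ≤ pp p S ∧ (pp p S).relIndex S ≤ p ^ (p * n) := by
  haveI hppn : (pp p S).Normal := pp_normal inferInstance
  have hppf : (pp p S).map f ≤ pp p S := (map_pp f S).trans_le (pp_mono hSf)
  set Φ := ⁅S, S⁆ ⊔ pp p S with hΦ
  have hΦS : Φ ≤ S := sup_le (Subgroup.commutator_le_left S S) (pp_le_self S)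
  have hΦf : Φ.map f ≤ Φ := by
    rw [hΦ, Subgroup.map_sup, Subgroup.map_commutator]
    exact sup_le_sup (Subgroup.commutator_mono hSf hSf) hppf
  set X := ⁅Φ, S⁆ ⊔ pp p S with hX
  have hXΦ : X ≤ Φ :=
    sup_le ((Subgroup.commutator_mono hΦS le_rfl).trans le_sup_left) le_sup_right
  have hXf : X.map f ≤ X := by
    rw [hX, Subgroup.map_sup, Subgroup.map_commutator]
    exact sup_le_sup (Subgroup.commutator_mono hΦf hSf) hppf
  have h1 : Φ.relIndex S ≤ p ^ (p * n) := relIndex_section_le f hper hn hSf hΦf le_sup_left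
    fun x hx => Subgroup.mem_sup_right (pow_mem_pp hx)
  have h2 : X.relIndex Φ ≤ p ^ (p * n) := relIndex_section_le f hper hn hΦf hXf
    ((Subgroup.commutator_mono le_rfl hΦS).trans le_sup_left)
    fun x hx => Subgroup.mem_sup_right (pow_mem_pp (hΦS hx))
  have h3 : X.relIndex S ≤ p ^ (p * n + p * n) := by
    rw [← Subgroup.relIndex_mul_relIndex X Φ S hXΦ hΦS, pow_add]
    exact Nat.mul_le_mul h2 h1
  have h4 : ⁅S, S⁆ ≤ X := (Subgroup.commutator_mono le_rfl hS).trans
    (comm_lcs_le_of_relIndex hP (hXΦ.trans hΦS) h3)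
  have h5 : Φ ≤ pp p S := by
    refine le_of_le_sup_comm hP (sup_le (h4.trans ?_) le_sup_left)
    rw [hX, sup_comm]
    exact sup_le_sup_left (Subgroup.commutator_mono le_rfl le_top) _
  refine ⟨le_sup_left.trans h5, le_trans (le_of_eq ?_) h1⟩
  rw [le_antisymm h5 le_sup_right]

theorem derivedSeries_eq_bot_of_pGroup : derivedSeries P (pLen p n) = ⊥ := by
  set R := derivedSeries P (p * n + p * n) with hR
  haveI : R.Normal := derivedSeries_normal P _
  have hRlcs : R ≤ (⊤ : Subgroup P).lowerCentralSeries (p * n + p * n) :=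
    Subgroup.derived_le_lower_central _
  have hRf : R.map f ≤ R := map_derivedSeries_le_derivedSeries f _
  haveI : (pp p R).Normal := pp_normal inferInstance
  haveI : (pp p (pp p R)).Normal := pp_normal inferInstance
  have hppf : (pp p R).map f ≤ pp p R := (map_pp f R).trans_le (pp_mono hRf)
  obtain ⟨-, h1⟩ := deep_powerful hP f hper hn hRf hRlcs
  obtain ⟨-, h2⟩ := deep_powerful hP f hper hn hppf ((pp_le_self R).trans hRlcs)
  have h3 : (pp p (pp p R)).relIndex R ≤ p ^ (p * n + p * n) := by
    rw [← Subgroup.relIndex_mul_relIndex _ _ R (pp_le_self _) (pp_le_self R), pow_add]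
    exact Nat.mul_le_mul h2 h1
  have h4 : ⁅R, R⁆ ≤ pp p (pp p R) := (Subgroup.commutator_mono le_rfl hRlcs).trans
    (comm_lcs_le_of_relIndex hP ((pp_le_self _).trans (pp_le_self _)) h3)
  have hinj := R.subtype_injective
  have htopmap : (⊤ : Subgroup R).map R.subtype = R := by
    rw [← MonoidHom.range_eq_map, Subgroup.range_subtype]
  have htop : PE p (⊤ : Subgroup R) := by
    refine ⟨inferInstance, ?_⟩
    rw [← Subgroup.map_le_map_iff_of_injective hinj, Subgroup.map_commutator, map_pp, map_pp,
      htopmap]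
    exact h4
  have hd : (pp p (⊤ : Subgroup R)).relIndex ⊤ ≤ p ^ (p * n) := by
    refine le_trans (le_of_eq ?_) h1
    have h : (pp p R).subgroupOf R = pp p (⊤ : Subgroup R) := by
      show (pp p R).comap R.subtype = _
      have e : (pp p (⊤ : Subgroup R)).map R.subtype = pp p R := by rw [map_pp, htopmap]
      rw [← e]
      exact Subgroup.comap_map_eq_self_of_injective hinj _
    rw [Subgroup.relIndex_top_right, ← h]
    rfl
  have hS : ∀ x ∈ R, f x ∈ R := fun x hx => hRf (Subgroup.mem_map_of_mem f hx)
  let fR : R →* R := (f.comp R.subtype).codRestrict R fun x => hS x x.2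
  have hperR : ∀ x, fR^[p] x = x := by
    have hit : ∀ k (x : R), ((fR^[k] x : R) : P) = f^[k] (x : P) := by
      intro k
      induction k with
      | zero => exact fun _ => rfl
      | succ k ih =>
        intro x
        rw [Function.iterate_succ_apply', Function.iterate_succ_apply', ← ih]
        rfl
    exact fun x => Subtype.ext ((hit p x).trans (hper _))
  have h5 := dS_eq_bot (hP.to_subgroup R) htop fR hperR
    ((card_fixed_subgroup_le f R hS).trans hn) (p * n) htop le_top hd
  have h6 := congrArg (Subgroup.map R.subtype) h5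
  rw [map_dS, htopmap, Subgroup.map_bot, hR, ← dS_top, ← dS_add, dS_top] at h6
  exact h6

end Cfsg.Agent.FG72.Alperin
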