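import Mathlib
import Cfsg.Agent.FG72.Alperin.Bound
import Cfsg.Agent.S3779
import Cfsg.Agent.BGUniq.PLocalBasic
import Cfsg.Agent.Lib.Thompson.Cores
import Cfsg.Agent.Lib.Thompson.PSolvable
import Cfsg.Agent.Lib.Coprime.Action
import Cfsg.Agent.Lib.PGroup.Basic

/-!
Alperin's theorem: the derived length of a finite solvable group is bounded by the order and the
number of fixed points of an automorphism of prime order `p` whose fixed points form a `p`-group.
-/

set_option autoImplicit false

namespace Cfsg.Agent.FG72.Alperin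

open scoped commutatorElement

theorem derivedSeries_card_eq_bot (H : Type*) [Group H] [Finite H] [Group.IsSolvable H] :
    derivedSeries H (Nat.card H) = ⊥ := by
  have hstep : ∀ k, derivedSeries H k = ⊥ ∨ Nat.card (derivedSeries H k) + k ≤ Nat.card H := by
    intro k
    induction k with
    | zero => right; simp
    | succ k ih =>
      rcases ih with h | h
      · left
        rw [derivedSeries_succ, h, Subgroup.commutator_bot_left]
      · have hle : derivedSeries H (k + 1) ≤ derivedSeries H k :=
          derivedSeries_antitone H (Nat.le_succ k)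
        rcases hle.lt_or_eq with hlt | heq
        · right
          have hlt' : Nat.card (derivedSeries H (k + 1)) < Nat.card (derivedSeries H k) :=
            lt_of_le_of_ne (Subgroup.card_le_of_le hle)
              fun he => hlt.ne (Subgroup.eq_of_le_of_card_ge hle he.ge)
          omega
        · left
          obtain ⟨N, hN⟩ := (Group.isSolvable_def H).mp inferInstance
          have hstab : ∀ j, derivedSeries H (k + j) = derivedSeries H k := by
            intro j
            induction j with
            | zero => rfl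
            | succ j ihj =>
              rw [← add_assoc, derivedSeries_succ, ihj, ← derivedSeries_succ, heq]
          rw [heq, ← hstab N]
          exact le_bot_iff.mp ((derivedSeries_antitone H (Nat.le_add_left N k)).trans hN.le)
  rcases hstep (Nat.card H) with h | h
  · exact h
  · have := Nat.card_pos (α := derivedSeries H (Nat.card H))
    omega

section Quotient

variable {Q : Type*} [Group Q] [Finite Q] [Group.IsSolvable Q] {p n : ℕ} [hp : Fact p.Prime]

theorem derivedSeries_le_pCore (hO : Cfsg.pPrimeCore p Q = ⊥) {B : ℕ}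
    (hV : Nat.card (↥(Cfsg.pCore p Q) ⧸ frattini ↥(Cfsg.pCore p Q)) ≤ B) :
    derivedSeries Q B.factorial ≤ Cfsg.pCore p Q := by
  classical
  have hps := BGUniq.isPSolvable_of_isSolvable' p Q
  set P := Cfsg.pCore p Q with hPdef
  have hPp : IsPGroup p P := Thompson.isPGroup_pCore
  have hC : Subgroup.centralizer (P : Set Q) ≤ P := Thompson.centralizer_pCore_le hps hO
  let ψ : Q →* Equiv.Perm (P ⧸ frattini P) :=
    MonoidHom.mk' (fun q => (QuotientGroup.congr (frattini P) (frattini P)
      (MulAut.conjNormal q) (Subgroup.characteristic_iff_map_eq.mp inferInstance _)).toEquiv)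
      (fun a b => Equiv.ext fun v => by
        induction v using QuotientGroup.induction_on with
        | H x =>
          show QuotientGroup.mk (MulAut.conjNormal (a * b) x) =
            QuotientGroup.mk (MulAut.conjNormal a (MulAut.conjNormal b x))
          rw [map_mul]
          rfl)
  have hker : ψ.ker ≤ P := by
    refine Thompson.le_pCore inferInstance ?_
    rw [IsPGroup.iff_card]
    refine ⟨_, Nat.eq_prime_pow_of_unique_prime_dvd Nat.card_pos.ne' fun {q} hq hqd => ?_⟩
    haveI : Fact q.Prime := ⟨hq⟩
    obtain ⟨x, hx⟩ := exists_prime_orderOf_dvd_card' q hqd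
    by_contra hqp
    have hxQ : orderOf (x : Q) = q := by rw [Subgroup.orderOf_coe, hx]
    have hxC : Subgroup.zpowers (x : Q) ≤ Subgroup.centralizer (P : Set Q) := by
      refine Coprime.le_centralizer_of_frattini _ _ Subgroup.le_normalizer_of_normal ?_ ?_
      · rw [Nat.card_zpowers, hxQ]
        obtain ⟨k, hk⟩ := IsPGroup.iff_card.mp (hPp.to_subgroup (frattini P))
        rw [hk]
        exact ((Nat.coprime_primes hq hp.out).mpr hqp).pow_right k
      · intro a ha v hv
        have haK : a ∈ ψ.ker := (Subgroup.zpowers_le.mpr x.2) ha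
        have h1 := Equiv.ext_iff.mp (MonoidHom.mem_ker.mp haK) (QuotientGroup.mk (⟨v, hv⟩ : P))
        have h2 : (QuotientGroup.mk (MulAut.conjNormal a (⟨v, hv⟩ : P)) : P ⧸ frattini P) =
            QuotientGroup.mk (⟨v, hv⟩ : P) := h1
        rw [QuotientGroup.eq] at h2
        refine ⟨(MulAut.conjNormal a (⟨v, hv⟩ : P)) * (⟨v, hv⟩ : P)⁻¹, ?_, ?_⟩
        · have h3 := (inferInstance : (frattini P).Normal).conj_mem _ (inv_mem h2) (⟨v, hv⟩ : P)
          simpa [mul_assoc] using h3
        · simp
    have hxP : (x : Q) ∈ P := hC (hxC (Subgroup.mem_zpowers _))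
    obtain ⟨k, hk⟩ := IsPGroup.iff_card.mp hPp
    have hd : q ∣ p ^ k := hxQ ▸ hk ▸ Subgroup.orderOf_dvd_natCard P hxP
    exact hqp ((Nat.prime_dvd_prime_iff_eq hq hp.out).mp (hq.dvd_of_dvd_pow hd))
  have hcard : Nat.card ψ.range ≤ B.factorial := by
    refine (Nat.card_le_card_of_injective _ Subtype.val_injective).trans ?_
    rw [Nat.card_perm]
    exact Nat.factorial_le hV
  haveI : Group.IsSolvable ψ.range :=
    Group.isSolvable_of_surjective ψ.rangeRestrict_surjective
  refine le_trans (fun g hg => ?_) hker
  have h1 := map_derivedSeries_le_derivedSeries ψ.rangeRestrict _ (Subgroup.mem_map_of_mem _ hg)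
  have h2 : derivedSeries ψ.range B.factorial = ⊥ := le_bot_iff.mp
    ((derivedSeries_antitone _ hcard).trans (derivedSeries_card_eq_bot ψ.range).le)
  rw [h2, Subgroup.mem_bot] at h1
  rw [← MonoidHom.ker_rangeRestrict, MonoidHom.mem_ker]
  exact h1

theorem derivedSeries_eq_bot_of_trivial_pPrimeCore (hO : Cfsg.pPrimeCore p Q = ⊥) (f : Q ≃* Q)
    (hper : ∀ g, f^[p] g = g) (hn : Nat.card {g : Q // f g = g} ≤ p ^ n) :
    derivedSeries Q (pLen p n + (p ^ (p * n)).factorial) = ⊥ := by
  set P := Cfsg.pCore p Q with hPdef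
  have hPp : IsPGroup p P := Thompson.isPGroup_pCore
  have hPf : P.map f.toMonoidHom = P := Thompson.map_pCore_equiv f
  have hS : ∀ x ∈ P, f.toMonoidHom x ∈ P := fun x hx =>
    hPf.le (Subgroup.mem_map_of_mem f.toMonoidHom hx)
  let fP : P →* P := (f.toMonoidHom.comp P.subtype).codRestrict P fun x => hS x x.2
  have hit : ∀ k (x : P), ((fP^[k] x : P) : Q) = f^[k] (x : Q) := by
    intro k
    induction k with
    | zero => exact fun _ => rfl
    | succ k ih =>
      intro x
      rw [Function.iterate_succ_apply', Function.iterate_succ_apply', ← ih]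
      rfl
  have hperP : ∀ x, fP^[p] x = x := fun x => Subtype.ext ((hit p x).trans (hper _))
  have hnP : Nat.card {x : P // fP x = x} ≤ p ^ n :=
    (card_fixed_subgroup_le f.toMonoidHom P hS).trans hn
  have hbij : Function.Bijective fP := Finite.injective_iff_bijective.mp fun a b h =>
    Subtype.ext (f.injective (congrArg Subtype.val h))
  have hV : Nat.card (P ⧸ frattini P) ≤ p ^ (p * n) := by
    have h := relIndex_section_le (S := (⊤ : Subgroup P)) (N := frattini P) fP hperP hnP le_top
      (Subgroup.characteristic_iff_map_eq.mp inferInstance (MulEquiv.ofBijective fP hbij)).le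
      (PGroup.commutator_le_frattini hPp) (fun x _ => PGroup.pow_mem_frattini hPp x)
    rwa [Subgroup.relIndex_top_right] at h
  have hL := derivedSeries_le_pCore hO hV
  have hP0 : dS (pLen p n) P = ⊥ := by
    rw [dS_eq_map, derivedSeries_eq_bot_of_pGroup hPp fP hperP hnP, Subgroup.map_bot]
  rw [← dS_top, dS_add, ← le_bot_iff, ← hP0]
  exact dS_mono (by rw [dS_top]; exact hL) _

end Quotient

/-- The bound in Alperin's theorem. -/
def solvLen (p n : ℕ) : ℕ :=
  Finset.sum (Finset.range (2 ^ (p - 1) - 1)) (fun i => (p - 1) ^ i) +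
    (pLen p n + (p ^ (p * n)).factorial)

theorem derivedSeries_eq_bot_of_solvable {G : Type*} [Group G] [Finite G] [Group.IsSolvable G]
    {p n : ℕ} [hp : Fact p.Prime] (α : MulAut G) (hα : orderOf α = p)
    (hcard : Nat.card {g : G // α g = g} = p ^ n) : derivedSeries G (solvLen p n) = ⊥ := by
  set N := Cfsg.pPrimeCore p G with hNdef
  set ξ := Finset.sum (Finset.range (2 ^ (p - 1) - 1)) (fun i => (p - 1) ^ i) with hξ
  haveI hNn : N.Normal := by rw [hNdef]; infer_instance
  have hNα : N.map α.toMonoidHom = N := Thompson.map_pPrimeCore_equiv α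
  have hαp : α ^ p = 1 := hα ▸ pow_orderOf_eq_one α
  have hiter : ∀ (k : ℕ) (g : G), α^[k] g = (α ^ k) g := by
    intro k
    induction k with
    | zero => intro g; rfl
    | succ k ih => intro g; rw [Function.iterate_succ_apply', ih, pow_succ']; rfl
  have hNstep : dS ξ N = ⊥ := by
    have hS : ∀ x ∈ N, α x ∈ N := fun x hx => hNα.le (Subgroup.mem_map_of_mem α.toMonoidHom hx)
    have hbij : Function.Bijective (fun x : N => (⟨α x, hS x x.2⟩ : N)) :=
      Finite.injective_iff_bijective.mp fun a b h =>
        Subtype.ext (α.injective (congrArg Subtype.val h))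
    let β : MulAut N := MulEquiv.ofBijective
      ((α.toMonoidHom.comp N.subtype).codRestrict N fun x => hS x x.2) hbij
    have hfpf : ∀ x : N, β x = x → x = 1 := by
      intro x hx
      have hx' : α (x : G) = x := congrArg Subtype.val hx
      let C : Subgroup G := α.toMonoidHom.eqLocus (MonoidHom.id G)
      have h1 : orderOf (x : G) ∣ p ^ n := hcard ▸ Subgroup.orderOf_dvd_natCard C hx'
      have h2 : orderOf (x : G) ∣ Nat.card N := Subgroup.orderOf_dvd_natCard N x.2
      have h3 : (p ^ n).Coprime (Nat.card N) :=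
        Nat.Coprime.pow_left n (Thompson.card_pPrimeCore_coprime (p := p) (G := G)).symm
      exact Subtype.ext (orderOf_eq_one_iff.mp (Nat.dvd_one.mp (h3 ▸ Nat.dvd_gcd h1 h2)))
    have hit : ∀ k (x : N), (((β ^ k) x : N) : G) = (α ^ k) (x : G) := by
      intro k
      induction k with
      | zero => exact fun _ => rfl
      | succ k ih =>
        intro x
        rw [pow_succ', pow_succ', MulAut.mul_apply, MulAut.mul_apply, ← ih]
        rfl
    have hβp : β ^ p = 1 := MulEquiv.ext fun x => Subtype.ext (by rw [hit, hαp]; rfl)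
    rw [dS_eq_map]
    suffices h : derivedSeries N ξ = ⊥ by rw [h, Subgroup.map_bot]
    by_cases hβ : β = 1
    · refine (Subgroup.eq_bot_iff_forall _).mpr fun x _ => hfpf x ?_
      rw [hβ]; rfl
    · obtain ⟨-, -, h⟩ := S3779.result hp.out β
        (orderOf_eq_prime hβp hβ) hfpf
      exact le_bot_iff.mp ((Subgroup.derived_le_lower_central _).trans h.le)
  let αQ : G ⧸ N ≃* G ⧸ N := QuotientGroup.congr N N α hNα
  have hperQ : ∀ y, αQ^[p] y = y := by
    intro y
    obtain ⟨g, rfl⟩ := QuotientGroup.mk_surjective y
    have h : ∀ k, αQ^[k] (QuotientGroup.mk g) = QuotientGroup.mk (α^[k] g) := by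
      intro k
      induction k with
      | zero => rfl
      | succ k ih => rw [Function.iterate_succ_apply', Function.iterate_succ_apply', ih]; rfl
    rw [h, hiter, hαp]
    rfl
  have hnQ : Nat.card {y : G ⧸ N // αQ y = y} ≤ p ^ n :=
    (card_fixed_le α.toMonoidHom αQ.toMonoidHom (QuotientGroup.mk' N)
      (QuotientGroup.mk'_surjective N) fun _ => rfl).trans hcard.le
  have hQ := derivedSeries_eq_bot_of_trivial_pPrimeCore (Q := G ⧸ N)
    Thompson.pPrimeCore_quotient_pPrimeCore αQ hperQ hnQ
  have hle : derivedSeries G (pLen p n + (p ^ (p * n)).factorial) ≤ N := by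
    intro g hg
    have h1 := map_derivedSeries_le_derivedSeries (QuotientGroup.mk' N) _
      (Subgroup.mem_map_of_mem _ hg)
    rw [hQ, Subgroup.mem_bot] at h1
    exact (QuotientGroup.eq_one_iff g).mp h1
  rw [solvLen, ← hξ, ← dS_top, dS_add, ← le_bot_iff, ← hNstep]
  exact dS_mono (by rw [dS_top]; exact hle) _

end Cfsg.Agent.FG72.Alperin
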